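/- Standard subgroup `M12`, outer case: the successive 2-subgroups. -/
import Cfsg.Agent.INV.TM.Def
import Cfsg.Agent.INV.TM.DP

set_option autoImplicit false

namespace CL.TM

open Subgroup CL.MAut CL.K CL.Golay

/-- codes of `z e f q u b y`, generators of a Sylow 2-subgroup `T_A` of `A0` (table `PA`) -/
def aC : List ℕ := [970499966350631336865513127433832480, 735548533734033527546468929854573569,
  596654750537752186788767474980520034, 217411764146181876636355759353921634,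
  735500604421669808992593446508235808, 91416015341393221327883410196716718,
  235858092014725848871085848532159489]

/-- the generators of `T_A` -/
noncomputable def aP (i : ℕ) : Pm := pm (aC.getD i one24)

/-- order 3, centralises `z` and `b`, inverted by `u` -/
noncomputable def ρP : Pm := pm 731722996265023435542964160459476032

/-- order 3, `z ↦ e ↦ z e`, inverted by `y` -/
noncomputable def σP : Pm := pm 933536609106904554087754160280905092

open Classical in
/-- a permutation as an element of `L0` -/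
noncomputable def toL (p : Pm) : L0 := if h : p ∈ L0 then ⟨p, h⟩ else 1

theorem toL_coe {p : Pm} (h : p ∈ L0) : (toL p : Pm) = p := by rw [toL, dif_pos h]

variable {G : Type*} [Group G]

/-- evaluation of a code: bits `z e f q u b y t x x1 x2 r` = `1 2 4 8 16 32 64 128 256 512 1024 2048` -/
def E (g : ℕ → G) (c : ℕ) : G := PC.evk g 13 c

theorem E_eq {P : PC} (g : ℕ → G) {c : ℕ} (hn : P.n ≤ 13) (hc : c < 2 ^ P.n) : E g c = P.ev g c :=
  PC.evk_lt g hc 13 hn

/-- conjugation by `r` maps the first codes to the second codes -/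
def Acts (g : ℕ → G) (r : G) (B : List (ℕ × ℕ)) : Prop := ∀ p ∈ B, r * E g p.1 * r⁻¹ = E g p.2

/-- `c` has bits only in the mask `m` -/
abbrev In (m c : ℕ) : Prop := c &&& m = c

/-- masks: `Q = 79`, `R = ⟨Q, t, x⟩ = 463`, `K0 = R ⟨b⟩ = 495`, `J_T = C_T(e) = 191`, `P1 = ⟨J_T, x, x1⟩ = 959` -/
def mQ : ℕ := 79
def mR : ℕ := 463
def mK : ℕ := 495
def mJ : ℕ := 191
def mP : ℕ := 959

/-- `ρ` on the generators of `K0` -/
def tρ : List (ℕ × ℕ) := [(1, 1), (2, 4), (4, 6), (8, 68), (32, 32), (64, 74), (128, 128), (256, 256)]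

/-- `σ` on the generators of `J_T` -/
def tσ (lam : Bool) : List (ℕ × ℕ) :=
  cond lam [(1, 2), (2, 3), (4, 156), (8, 9), (16, 132), (32, 183), (128, 128)]
    [(1, 2), (2, 3), (4, 28), (8, 9), (16, 4), (32, 55), (128, 128)]

/-- order `2 ^ 10`: `PS lam b` -/
def PS (lam b : Bool) : PC := cond lam (cond b S2d S2c) (cond b S2b S2a)

/-- order `2 ^ 11`: `PP b δ` -/
def PP (b δ : Bool) : PC := cond b (cond δ Pb1 Pb0) (cond δ Pa1 Pa0)

/-- code of `x3 = ρ x2 ρ⁻¹ = x2 x1 w` -/
def c3 (b δ : Bool) : ℕ := cond b (cond δ 1700 1701) (cond δ 1537 1536)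

variable (t : G) (ι : L0 →* G) (W : Subgroup G) (π : G → Pm)

/-- `ι` at a permutation -/
noncomputable abbrev io (p : Pm) : G := ι (toL p)

/-- a Sylow 2-subgroup of `C(t)` over `T_A` -/
structure St0 (T : Subgroup G) : Prop where
  cf : Cf t ι W π
  out : ∃ a, Commute a t ∧ π a ∉ L0
  le : ∀ τ ∈ T, Commute τ t
  card : Nat.card T = 256
  tm : t ∈ T
  im : ∀ τ ∈ T, ∃ c < 128, π τ = E aP c
  sur : ∀ c < 128, ∃ τ ∈ T, π τ = E aP c
  iom : ∀ l : L0, (∃ c < 128, (l : Pm) = E aP c) → ι l ∈ T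

/-- order `2 ^ 9`: `g 8 = x` centralises `g 0, …, g 6` and maps `t` to `t z` -/
structure St1 (lam : Bool) (g : ℕ → G) : Prop where
  cf : Cf t ι W π
  out : ∃ a, Commute a t ∧ π a ∉ L0
  md : PS1.Md g
  inj : PS1.Inj g
  gt : g 7 = t
  gi : ∀ i ∈ [0, 1, 2, 3, 6], g i = io ι (aP i)
  gu : g 4 = io ι (aP 4) * cond lam t 1
  gb : π (g 5) = aP 5
  ρx : Commute (io ι ρP) (g 8)
  xW : ∀ w ∈ W, g 8 * w * (g 8)⁻¹ ∈ W

/-- order `2 ^ 10` -/
structure St2 (lam b : Bool) (g : ℕ → G) : Prop extends St1 t ι W π lam g where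
  md2 : (PS lam b).Md g
  inj2 : (PS lam b).Inj g
  x1 : g 9 = io ι σP * g 8 * (io ι σP)⁻¹

/-- order `2 ^ 11` -/
structure St3 (b δ : Bool) (g : ℕ → G) : Prop extends St2 t ι W π false b g where
  md3 : (PP b δ).Md g
  inj3 : (PP b δ).Inj g
  x2 : g 10 = io ι ρP * g 9 * (io ι ρP)⁻¹
  x3 : io ι ρP * g 10 * (io ι ρP)⁻¹ = E g (c3 b δ)

/-- order `2 ^ 11`, the case `x ∼ t`, normalised -/
structure StB (g : ℕ → G) : Prop extends St1 t ι W π false g where
  md3 : Pb0.Md g
  inj3 : Pb0.Inj g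
  x2 : g 10 = io ι ρP * g 9 * (io ι ρP)⁻¹
  x3 : io ι ρP * g 10 * (io ι ρP)⁻¹ = E g 1701
  x1W : ∀ w ∈ W, g 9 * w * (g 9)⁻¹ = g 8 * w * (g 8)⁻¹
  xD : IsConj t (g 8)
  qt : ¬ IsConj t (E g 136)

namespace PC

variable (P : PC)

/-- parity of `x &&& m` -/
def par (m x : ℕ) : ℕ := Nat.land (pc24 (Nat.land x m)) 1

/-- `x ↦ par m x` respects the relations -/
noncomputable def homb (m : ℕ) : Bool :=
  allLt (fun k => Nat.beq (par m (P.sq k)) 0 &&
    allLt (fun j => Nat.beq (par m (P.th k (Nat.pow 2 j))) (par m (Nat.pow 2 j))) k) P.n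

/-- `|C(r)| + 2 ^ 16 #{v ∈ C(r) | v² = 1} + 2 ^ 32 #{v ∈ C(r) | v⁴ = 1}` -/
noncomputable def cnt (r : ℕ) : ℕ :=
  sumLt2 (fun v => Bool.rec (motive := fun _ => ℕ) 0
    (force (P.mul v v) fun s => Bool.rec (motive := fun _ => ℕ)
      (Bool.rec (motive := fun _ => ℕ) 1 4294967297 (Nat.beq (P.mul s s) 0)) 4295032833 (Nat.beq s 0))
    (Nat.beq (P.mul r v) (P.mul v r))) (Nat.pow 2 (P.n - 4)) 16

/-- the centraliser of `r` does not embed in `T` (order 256, 72 solutions of `v² = 1`, 224 of `v⁴ = 1`) -/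
noncomputable def exb (r : ℕ) : Bool :=
  force (P.cnt r) fun c => force (lk c 0) fun a => Nat.blt 256 a || Nat.blt 72 (lk c 1) ||
    (Nat.beq a 256 && !(Nat.beq (lk c 1) 72 && Nat.beq (lk c 2) 224))

/-- number of codes `y` with `lk ti y = i` -/
noncomputable def siz (ti i : ℕ) : ℕ :=
  sumLt2 (fun y => Bool.rec (motive := fun _ => ℕ) 0 1 (Nat.beq (lk ti y) i)) (Nat.pow 2 (P.n - 4)) 16

/-- every involution `y` outside the kernel of `par m` is conjugate by `lk tk y` to the representative number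
`lk ti y` (numbered from 1; the first one is `tc`); each other representative has a class of size at least
`2 ^ (n - 7)`, or is excluded by `exb`, or lies in `ext` -/
noncomputable def trxb (m tc tk ti : ℕ) (reps ext : List ℕ) : Bool :=
  Nat.ble 8 P.n && Nat.ble P.n 13 && P.homb m && Nat.blt tc (Nat.pow 2 P.n) && Nat.beq (par m tc) 1 &&
  Nat.beq (lk (P.cnt tc) 0) 256 && lall (fun r => Nat.blt r (Nat.pow 2 P.n)) reps &&
  allLt2 (fun y => force (lk ti y) fun i => Bool.rec (motive := fun _ => Bool)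
    (Nat.blt (lk tk y) (Nat.pow 2 P.n) && Nat.ble i (Nat.succ (llen reps)) &&
      Nat.beq (P.cj (lk tk y) (lget (tc :: reps) (Nat.pred i))) y)
    (Nat.beq (par m y) 0 || !Nat.beq (P.mul y y) 0) (Nat.beq i 0)) (Nat.pow 2 (P.n - 4)) 16 &&
  allLt (fun i => force (lget reps i) fun r => lmem r ext ||
    Nat.ble (Nat.pow 2 (P.n - 7)) (P.siz ti (Nat.add i 2)) || P.exb r) (llen reps)

/-- `g k` is not in the group generated by the lower generators: it maps `c` outside its class -/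
noncomputable def stepb (k c : ℕ) : Bool :=
  Nat.blt c (Nat.pow 2 k) && force (P.th k c) fun d =>
    allLt2 (fun v => !Nat.beq (P.mk' k v c) (P.mk' k d v)) (Nat.pow 2 (k - 4)) 16

/-- the product of the `lget im i` over the bits `i < k` of `c` -/
noncomputable def hm (im : List ℕ) (k c : ℕ) : ℕ :=
  Nat.rec (motive := fun _ => ℕ) 0 (fun i ih => force ih fun a =>
    Bool.rec (motive := fun _ => ℕ) (P.mul a (lget im i)) a (Nat.beq (bit c i) 0)) k

/-- number of codes `v` with bit `v` of `ib` set in the kernel of `par m` -/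
noncomputable def kc (ib m : ℕ) : ℕ :=
  sumLt2 (fun v => Bool.rec (motive := fun _ => ℕ) 0 (bit ib v) (Nat.beq (par m v) 0)) 256 16

/-- certificate that `y` is not conjugate to `t` (order `2 ^ 12`): `C(y)` has order 256, `v ∈ C(y)` has square `z`,
`k` maps `y` to `y z`; `eg` generates a normal subgroup of order 128 (elements `lk tb c`) normalising `⟨y, z⟩` with
squares in `⟨z⟩`; `R` is normal, `ks` conjugate `t` to the 16 elements `t ⟨z, e, f⟩`, `x ⟨z, e, f⟩`; `ib` marks the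
solutions of `v² = 1`; the kernel of `par m0` has `N` of them, no kernel lying like that to `y` has `N`. -/
noncomputable def autb (y v k : ℕ) (eg ks : List ℕ) (tb ib m0 N : ℕ) : Bool :=
  Nat.beq P.n 12 && Nat.blt y 4096 && Nat.blt v 4096 && Nat.blt k 4096 && Nat.beq (lk (P.cnt y) 0) 256 &&
  Nat.beq (P.mul v y) (P.mul y v) && Nat.beq (P.mul v v) 1 && Nat.beq (P.cj k y) (P.mul y 1) &&
  allLt (fun j => Nat.beq (P.cj (Nat.pow 2 j) 1) 1) 12 &&
  lall (fun e => Nat.blt e 4096 && (Nat.beq (P.cj e y) y || Nat.beq (P.cj e y) (P.mul y 1)) &&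
    Nat.ble (P.mul e e) 1 && lall (fun e' => Nat.ble (P.cm e e') 1) eg &&
    allLt (fun j => force (P.cj (Nat.pow 2 j) e) fun d => anyLt (fun c => Nat.beq (lk tb c) d) 128) 12) eg &&
  Nat.beq (llen eg) 7 && Nat.beq (lget eg 0) 1 &&
  allLt (fun c => Nat.beq (lk tb c) (P.hm eg 7 c) && allLt (fun d => !Nat.beq (lk tb c) (lk tb d)) c) 128 &&
  allLt (fun j => lall (fun i => force (P.cj (Nat.pow 2 j) i) fun d => Nat.beq (Nat.land d 463) d)
    [1, 2, 4, 8, 64, 128, 256]) 12 &&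
  allLt (fun i => Nat.blt (lget ks i) 4096 &&
    Nat.beq (P.cj (lget ks i) 128) (Nat.add (Nat.mul 128 (Nat.succ (Nat.div i 8))) (Nat.mod i 8))) 16 &&
  allLt2 (fun w => Nat.beq (bit ib w) (Bool.rec (motive := fun _ => ℕ) 0 1 (Nat.beq (P.mul w w) 0))) 256 16 &&
  P.homb m0 && Nat.beq (kc ib m0) N &&
  allLt2 (fun m => !P.homb m || !Nat.beq (par m y) (par m0 128) || !Nat.beq (kc ib m) N) 256 16

end PC

end CL.TM
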