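/- Facts on `Aut M12`. -/
import Cfsg.Agent.INV.TM.D2

set_option autoImplicit false

namespace CL.TM

open Subgroup CL.MAut CL.K CL.Golay

/-! All by kernel computation with codes (`R.pm`, `R.mul`, `comp24`, `conj24`, `I.of_okM`, `in12`, `memh12`, `mem12`);
`cenz` by the search `allP24 (PC.cConj ..)` as in `CL.MAut.cent_trivial` (the centraliser of `z` in `M24` has order
21504; test `th12`), the later ones from `cenz` by checking 384 elements. Python model: `tools/tm/m.py`, `b.py`. -/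

namespace FA

open scoped Pointwise

/-- `P` is the canonical table of `g` -/
def Cd (g : Pm) (P : ℕ) : Prop := P = Golay.E.code 5 g

variable {g h : Pm} {P Q : ℕ}

theorem Cd.r (a : Cd g P) : R g P := a ▸ Enc.rep_code fmt g
theorem cdm (a : R g P) (b : R h Q) : Cd (g * h) (comp24 P Q) := a.comp_eq_code b
theorem Cd.eq (a : Cd g P) (b : Cd h Q) : g = h ↔ Nat.beq P Q = true := by
  rw [Nat.beq_eq, a, b, (Enc.code_injective fmt).eq_iff]
theorem cd1 : Cd 1 one24 := one24_eq.trans Enc.one_eq_code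
theorem cdc (a : R g P) (b : R h Q) : Cd (g * h * g⁻¹) (conj24 P Q) := by
  rw [conj24, force_eq, force_eq]; exact cdm (a.mul b) a.inv
theorem req (a : R g P) (b : R h Q) (e : Nat.beq P Q = true := by decide +kernel) : g = h :=
  MAut.R.eq_of a b (Nat.eq_of_beq_eq_true e)
/-- the tables commute -/
def cmb (P Q : ℕ) : Bool := Nat.beq (comp24 P Q) (comp24 Q P)
theorem cmb_of (a : R g P) (b : R h Q) (e : Commute g h) : cmb P Q = true := ((cdm a b).eq (cdm b a)).1 e
theorem bimp {a b : Bool} (e : (!a || b) = true) (ha : a = true) : b = true := by simpa [ha] using e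

/-- table of `aP i` -/
def ac (i : ℕ) : ℕ := aC.getD i one24
/-- table of `ρP` -/
def ρc : ℕ := 731722996265023435542964160459476032
/-- table of `σP` -/
def σc : ℕ := 933536609106904554087754160280905092

theorem ra {i : ℕ} (hi : i < 7 := by norm_num) : R (aP i) (ac i) :=
  R.pm (allLt_iff.1 (show allLt (fun i => isPerm24 (ac i)) 7 = true by decide +kernel) i hi)
theorem rρ : R ρP ρc := R.pm (P := ρc) (by decide +kernel)
theorem rσ : R σP σc := R.pm (P := σc) (by decide +kernel)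

/-- table of a product of generators -/
noncomputable def ek (c k : ℕ) : ℕ :=
  Nat.rec (motive := fun _ => ℕ) one24 (fun i ih => force ih fun a => comp24 a (cond (c.testBit i) (ac i) one24)) k

theorem cd_ek (c : ℕ) : ∀ k ≤ 7, Cd (PC.evk aP k c) (ek c k)
  | 0, _ => cd1
  | k + 1, hk => by
    change Cd (_ * _) (force (ek c k) fun a => comp24 a (cond (c.testBit k) (ac k) one24))
    rw [force_eq]
    refine cdm (cd_ek c k (by omega)).r ?_
    cases c.testBit k
    exacts [R.one, ra hk]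

/-- the tables of the 128 elements of `T_A` -/
def TB : ℕ := 0x488c4a82b30cef6a2b6850538ddc50358431c3648d539428b4544f8ddc50b48c4a80b308f3942964546fbc4ae0c98431c164894f6a2ab85073bc4ae1348c32876484ef9228b854132baf11498449c6b305536c2b64500f2baf11c88c32856480f36c2ab4502f716371b58449c4b3014f92296854337163712126258676057484a6a6bc1571637140c962c6a206d5435e794c14716371c1262584760175435ea94c342baf11a0c962c4a202d484a676bc352baf1020c922c2760ed58366a93c54bc4ae041266582a20d74449e76cc55bc4ae0c0c922c0760ad4449ea6cc758ddc50a1266580a209758366793c748ddc5021844a836308f5849eb6cc74bc5c50408c31c2b489544367693c75bc5c50c1844a81630cf44366b93c558dcae0a08c31c0b48d55849f66cc548dcae121843286b480f4835f694c35716f11408c49c763015544a6b6bc34716f11c1843284b484f544a766bc142ba371a08c49c5630554835eb94c152ba37148c92586a601736a2878542f2ba371352662c67202cf942aa450332ba371b4c92584a6056f942a745013716f11c92662c47206d36a28a8540f716f10352622c2a60ad3922a78506f8dcae048c9658272096f6c28a454738d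cae0c92622c0a60ecf6c28745453bc5c50b4c96580720d73922aa8504fbc5c52d5475b1c6b5c88a4da97ca3010c202d0eab11c95dd90abe469b62810c20751475b0a6b4490abe499b6e818801754eab10a95c588a4da67caf0188018d147b32e95b888ace467b4b0004628d4ea592e6b3990a3da99c8a800462bd547b322959490a3da69c9c808043bd0ea59226b1588ace497b5d008043bcecb39a2c515327d604a21cd00462bbd7652624394cd9d10cac1d2004628becb39aec5392d9d104ac0b2080438cd76526e43b8d27d60ca20ad0804374d763a4ac544cd7d204aa2f210c2073ecb518a43c5329d50ca42ed10c202bd763a5cc55cd29d504a422d188012cecb519c43dd2d7d20caa232188012bd47b11c65c5929d209aa2ed188202ccea5b1c9b448d7d506a42f21882074d47b10a65dd8d7d509a423210c0173cea5b0a9b5c929d206aa22d10c018bd47592e9b158d9d606a21d2080628cceab32e6594927d109ac1cd08062bcd4759229b39927d106ac0ad00443bbceab32265b88d9d609a20b200443bd2cb5262c3b8c8abda49c8b008062bd57639a2453930a4e4c7b4a8080628d6cb526ec394d0a4e447b5c8004438d17639ae451528abdac9c9d00044375576518ac3dd28a3e449b63018820752cb3a4a455cd0acdac7ca28188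202d176519cc3c530acda47cae810c012d6cb3a5c4544c8a3e4c9b6f010c011124d85473406966194f49c0bbc4ae131b24506f806ab224f332816bc4ae191b24504f802b66195349c2b8ddc51b24d854534028b224ef328368ddc5011b28503340eab6254f31c56716370324d4542f80e96218f34a84b716370924d4540f80a8b6255331c762baf10b1b28501340ab6218ef4a86b2baf1025106cc3590dea332d422c472baf101a0893c3468e67491756584a2baf10a60893c1468a6a332d522c6771637099106cc15909e7491746586a716371191094c74685ea4b175258078ddc5126086bc7590667312d462c0a8ddc519a086bc559026a4b17425827bc4ae1a51094c54681e7312d562c2abc4ae1b1106bc549066b2195549c168dcae1920894c55685f6624f43280b8dcae1320894c75681eb2195449c36bc5c5111106bc7490276624f53282bbc5c50b11093c1568e762255431c4b2ba37092086cc1490deb618f54a8562ba37032086cc34909f62255531c6b716f10111093c3568a6b618f44a876716f109a4d8500f40ea74b2d322c4a716f10a5b24541380e8a3116f65847716f1019b24543380a874b2cf22c6a2ba370264d8502f40aaa31173658672ba371a5b28544f40687331732580abc5c519a4d45053806aa492cf62c07bc5c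51264d45073802a73316f2582a8dcae119b28546f4028a492d362c278dcae8aab47b6f09ba493d988590a61880189e959cae87b9a652c90b30a918801baa959ca28795a93d990591c610c20b9eb47b6309964652c88b31c910c202aa957c9d09dda63ad88b12290804329eb49b5c87de49558905b2260804372ab49b4a87c6463ad90b12e90046271e957c8b09c5a9558885b2e60046275a6fa40adac5045a8d23a6ec0804372df3aa0b2a460cb1d2d51ae4080432d9f3aa1d2a5e045a8cd3a62c004622ae6fa41cdadd0cb1d3251a2400462bae6fac232a1504b292d399cc18801bd9f3a222da960c59cd2525c4188018adf3a22edaba04b2932398ac10c208da6fac2f2a390c59ccd524a410c20ba9f3ac22da39093ac92b30a610c01b9e6fa2232aba065598d590a910c018aa6fa22f2a96093ac8db31c61882089df3ac2eda150655992591c918820729f3a40b2add063d88d5b2290044371e6faa0ada5e0952d92b1226004432aa6faa1cda46063d8925b2e90806229df3a41d2ac50952d8db12e6080622da959b5d07c64459d2851aec004432aeb47c9c89c5acb28d03a6e40044375ab47c8a89dda459d3051a2c0806272e959b4b07de4cb28c83a624080628aeb49caf0795a4b1cc8525cc10c018da957b6e89964c5a930399c410c01bae957b6289ba44b1cd0524ac18820bdab49ca307b9ac5a928398a418820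

/-- table of `E aP c` -/
def tb (c : ℕ) : ℕ := fld 120 1329227995784915872903807060280344575 TB c

theorem cdE {c : ℕ} (hc : c < 128 := by norm_num) : Cd (E aP c) (tb c) := by
  have := allLt_iff.1 (show allLt (fun c => Nat.beq (ek c 7) (tb c)) 128 = true by decide +kernel) c hc
  rw [← Nat.eq_of_beq_eq_true this, E, PC.evk_lt aP (k := 7) hc 13 (by norm_num)]
  exact cd_ek c 7 le_rfl

theorem cdv {c : ℕ} (hc : c < 128) : Cd (PA.ev aP c) (tb c) := E_eq (P := PA) aP (by decide) hc ▸ cdE hc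

theorem memL (a : R g P) (e : (okM P && t12 P) = true := by decide +kernel) : g ∈ L0 :=
  a.permOf_eq ▸ (in12 (I.of_okM (Bool.and_eq_true_iff.1 e).1) (Bool.and_eq_true_iff.1 e).2).permOf_mem

theorem acts {r : Pm} {C : ℕ} (a : R r C) {B : List (ℕ × ℕ)}
    (e : lall (fun p : ℕ × ℕ => Nat.blt p.1 128 && Nat.blt p.2 128 && Nat.beq (conj24 C (tb p.1)) (tb p.2)) B = true) :
    Acts aP r B := fun p hp => by
  have := lall_iff.1 e p hp
  simp only [Bool.and_eq_true, Nat.blt_eq] at this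
  exact req (a.conj (cdE this.1.1).r) (cdE this.1.2).r this.2

/-- table of `E aP c * ρP ^ k` -/
noncomputable def xc (c k : ℕ) : ℕ := force (tb c) fun a => force (pow24 ρc k) fun b => comp24 a b

theorem cdx {c : ℕ} (hc : c < 128) (k : ℕ) : Cd (E aP c * ρP ^ k) (xc c k) := by
  rw [xc, force_eq, force_eq]; exact cdm (cdE hc).r (rρ.pow k)

/-- the leaf test -/
noncomputable def leaf (Y P : ℕ) : Bool := !(Nat.beq (img24 P D0) Y && cmb P (ac 0)) ||
  anyLt (fun k => force (comp24 P (inv24 (pow24 ρc k))) fun Q => anyLt (fun c => Nat.beq (tb c) Q) 128) 3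

/-- a check over the 384 elements -/
noncomputable def all384 (p : ℕ → ℕ → ℕ → Bool) : Bool :=
  allLt (fun k => allLt (fun c => force (xc c k) (p c k)) 128) 3

theorem all384_spec {p : ℕ → ℕ → ℕ → Bool} (e : all384 p = true) {c k : ℕ} (hc : c < 128) (hk : k < 3) :
    p c k (xc c k) = true := by
  have := allLt_iff.1 (allLt_iff.1 e k hk) c hc
  rwa [force_eq] at this

end FA

open FA
open scoped Pointwise

theorem aP_md : PA.Md aP := ⟨PA_ok, fun k hk => by
  have := allLt_iff.1 (show allLt (fun k => Nat.blt (PA.sq k) 128 && Nat.beq (comp24 (ac k) (ac k)) (tb (PA.sq k)) &&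
    allLt (fun j => Nat.blt (PA.th k (2 ^ j)) 128 &&
      Nat.beq (comp24 (ac k) (ac j)) (comp24 (tb (PA.th k (2 ^ j))) (ac k))) k) 7 = true by decide +kernel) k hk
  simp only [Bool.and_eq_true, Nat.blt_eq, allLt_iff] at this
  exact ⟨req ((ra hk).mul (ra hk)) (cdv this.1.1).r this.1.2, fun j hj =>
    req ((ra hk).mul (ra (hj.trans hk))) ((cdv (this.2 j hj).1).r.mul (ra hk)) (this.2 j hj).2⟩⟩

theorem aP_inj : PA.Inj aP := fun x hx y hy e => by
  have := allLt_iff.1 (show allLt (fun x => force (tb x) fun a => allLt (fun y => !Nat.beq a (tb y) || Nat.beq x y) 128)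
    128 = true by decide +kernel) x hx
  rw [force_eq] at this
  exact Nat.eq_of_beq_eq_true (bimp (allLt_iff.1 this y hy) (((cdv hx).eq (cdv hy)).1 e))

theorem E_A {c : ℕ} (hc : c < 128) : E aP c ∈ A0 := by
  have := allLt_iff.1 (show allLt (fun c => force (tb c) fun a => okM a && th12 a) 128 = true by decide +kernel) c hc
  rw [force_eq, Bool.and_eq_true] at this
  exact (cdE hc).r.permOf_eq ▸ (memh12.2 _ (I.of_okM this.1) this.2).permOf_mem

theorem E_L {c : ℕ} (hc : c < 128) : E aP c ∈ L0 ↔ c.testBit 5 = false := by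
  have := allLt_iff.1 (show allLt (fun c => force (tb c) fun a => okM a && (t12 a == !c.testBit 5)) 128 = true by
    decide +kernel) c hc
  rw [force_eq, Bool.and_eq_true, beq_iff_eq] at this
  rw [← Bool.not_eq_true', ← this.2]
  exact ⟨fun m => mem12.2 _ _ m (cdE hc).r, fun e => memL (cdE hc).r (Bool.and_eq_true_iff.2 ⟨this.1, e⟩)⟩

theorem aP_L : ∀ i ∈ [0, 1, 2, 3, 4, 6], aP i ∈ L0 := fun i hi => by
  have := lall_iff.1 (show lall (fun i => Nat.blt i 7 && (okM (ac i) && t12 (ac i))) [0, 1, 2, 3, 4, 6] = true by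
    decide +kernel) i hi
  rw [Bool.and_eq_true, Nat.blt_eq] at this
  exact memL (ra this.1) this.2

theorem ρ_L : ρP ∈ L0 := memL rρ

theorem σ_L : σP ∈ L0 := memL rσ

theorem ρ_ne : ρP ≠ 1 := fun e =>
  absurd (((cdm rρ R.one).eq cd1).1 (by rw [e, one_mul])) (by decide +kernel)

theorem ρ3 : ρP ^ 3 = 1 := req (rρ.pow 3) R.one

theorem σ3 : σP ^ 3 = 1 := req (rσ.pow 3) R.one

theorem uρ : aP 4 * ρP * (aP 4)⁻¹ = ρP⁻¹ := req ((ra (i := 4)).conj rρ) rρ.inv

theorem yσ : aP 6 * σP * (aP 6)⁻¹ = σP⁻¹ := req ((ra (i := 6)).conj rσ) rσ.inv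

theorem actρ : Acts aP ρP [(1, 1), (2, 4), (4, 6), (8, 68), (32, 32), (64, 74)] := acts rρ (by decide +kernel)

theorem actσ : Acts aP σP [(1, 2), (2, 3), (4, 28), (8, 9), (16, 4), (32, 55)] := acts rσ (by decide +kernel)

theorem cenz {x : Pm} (hx : x ∈ A0) (h : Commute x (aP 0)) : ∃ c < 128, ∃ k < 3, x = E aP c * ρP ^ k := by
  obtain ⟨m, e⟩ := CL.M12.mem_Du.1 hx
  have key : ∀ Y < 2 ^ 24, x • Golay.E.setOf D0 = Golay.E.setOf Y →
      allP24 (CL.PC.cAnd (CL.PC.cSet D0 Y) (CL.PC.cConj 5 31 (ac 0) (ac 0))) (leaf Y) lv0 [] one24 = true →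
      ∃ c < 128, ∃ k < 3, x = E aP c * ρP ^ k := fun Y hY e t => by
    obtain ⟨P, hP, q⟩ := lvl0.all1 (φ := fun g => g • Golay.E.setOf D0 = Golay.E.setOf Y ∧ g * aP 0 = aP 0 * g)
      (Enc.Snd.cAnd ((Enc.Snd.cSet D0 Y).mono fun _ a => a.1)
        ((Enc.Snd.cConj (ra (i := 0)) (ra (i := 0))).mono fun _ a => a.2)) t x m (by simp) ⟨e, h.eq⟩
    obtain ⟨k, hk, q⟩ := anyLt_iff.1 (bimp q (Bool.and_eq_true_iff.2 ⟨Nat.beq_eq.mpr
      ((Golay.E.setOf_inj (hP.img_lt _) hY).1 ((hP.setOf_img _).trans e)), cmb_of hP ra h⟩))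
    rw [force_eq] at q
    obtain ⟨c, hc, q⟩ := anyLt_iff.1 q
    exact ⟨c, hc, k, hk, by rw [req (cdE hc).r (hP.mul (rρ.pow k).inv) q, inv_mul_cancel_right]⟩
  rcases e with e | e
  · exact key D0 (by decide) e (by decide +kernel)
  · exact key (Nat.xor D0 16777215) (by decide) (e.trans (CL.M12.setOf_compl' D0).symm) (by decide +kernel)

theorem cenV {x : Pm} (hx : x ∈ A0) (h0 : Commute x (aP 0)) (h1 : Commute x (aP 1)) :
    ∃ c < 64, x = E aP c := by
  obtain ⟨c, hc, k, hk, rfl⟩ := cenz hx h0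
  have := bimp (all384_spec (p := fun c k X => !cmb X (ac 1) || (Nat.blt c 64 && Nat.beq k 0)) (by decide +kernel) hc hk)
    (cmb_of (cdx hc k).r ra h1)
  rw [Bool.and_eq_true, Nat.blt_eq, Nat.beq_eq] at this
  exact ⟨c, this.1, by rw [this.2, pow_zero, mul_one]⟩

theorem cenQ {x : Pm} (hx : x ∈ A0) (h : ∀ i ∈ [0, 1, 2, 3, 6], Commute x (aP i)) : x = 1 ∨ x = aP 0 := by
  obtain ⟨c, hc, k, hk, rfl⟩ := cenz hx (h 0 (by simp))
  have r := (cdx hc k).r
  have := bimp (all384_spec (p := fun c k X => !(cmb X (ac 1) && cmb X (ac 2) && cmb X (ac 3) && cmb X (ac 6)) ||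
    (Nat.beq X one24 || Nat.beq X (ac 0))) (by decide +kernel) hc hk) (by
      rw [cmb_of r ra (h 1 (by simp)), cmb_of r ra (h 2 (by simp)), cmb_of r ra (h 3 (by simp)),
        cmb_of r ra (h 6 (by simp))]; rfl)
  exact (Bool.or_eq_true_iff.1 this).imp (fun e => req r R.one e) fun e => req r ra e

theorem ord3 {x : Pm} (hx : x ∈ A0) (h : Commute x (aP 0)) (h3 : x ^ 3 = 1) (h1 : x ≠ 1) :
    ∃ c < 128, E aP c * x * (E aP c)⁻¹ = ρP := by
  obtain ⟨c, hc, k, hk, rfl⟩ := cenz hx h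
  have r := (cdx hc k).r
  have := bimp (all384_spec (p := fun c k X => !Nat.beq (pow24 X 3) one24 || (Nat.beq X one24 ||
    anyLt (fun d => Nat.beq (conj24 (tb d) X) ρc) 128)) (by decide +kernel) hc hk)
    (Nat.beq_eq.mpr ((r.pow_succ_eq_one_iff 2).2 h3))
  obtain ⟨d, hd, e⟩ := anyLt_iff.1 ((Bool.or_eq_true_iff.1 this).resolve_left fun e => h1 (req r R.one e))
  exact ⟨d, hd, req ((cdE hd).r.conj r) rρ e⟩

theorem cmρ {c d : ℕ} (hc : c < 128) (hd : d < 128)
    (h : ρP * E aP c * ρP⁻¹ * (E aP c)⁻¹ = E aP d) : In mQ d := by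
  have := allLt_iff.1 (show allLt (fun c => force (comp24 (conj24 ρc (tb c)) (inv24 (tb c))) fun a =>
    allLt (fun d => !Nat.beq a (tb d) || Nat.beq (Nat.land 79 d) d) 128) 128 = true by decide +kernel) c hc
  rw [force_eq] at this
  have := Nat.eq_of_beq_eq_true (bimp (allLt_iff.1 this d hd)
    (((cdm (rρ.conj (cdE hc).r) (cdE hc).r.inv).eq (cdE hd)).1 h))
  exact (Nat.and_comm _ _).trans this

theorem cenρ {c : ℕ} (hc : c < 128) (h : Commute ρP (E aP c)) : c ∈ [0, 1, 32, 33] :=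
  lmem_iff.1 (bimp (allLt_iff.1 (show allLt (fun c => !cmb ρc (tb c) || lmem c [0, 1, 32, 33]) 128 = true by
    decide +kernel) c hc) (cmb_of rρ (cdE hc).r h))

/-- `Q = [Q, ρ]` -/
theorem genQ : ∀ p ∈ [(0, 12, 12), (1, 0, 4), (2, 0, 6), (3, 4, 64), (6, 0, 74)],
    aP p.1 = ρP * E aP p.2.1 * ρP⁻¹ * (E aP p.2.1)⁻¹ * (ρP * E aP p.2.2 * ρP⁻¹ * (E aP p.2.2)⁻¹) := fun p hp => by
  have := lall_iff.1 (show lall (fun p : ℕ × ℕ × ℕ => Nat.blt p.1 7 && Nat.blt p.2.1 128 && Nat.blt p.2.2 128 &&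
    Nat.beq (ac p.1) (comp24 (comp24 (conj24 ρc (tb p.2.1)) (inv24 (tb p.2.1)))
      (comp24 (conj24 ρc (tb p.2.2)) (inv24 (tb p.2.2))))) [(0, 12, 12), (1, 0, 4), (2, 0, 6), (3, 4, 64), (6, 0, 74)] = true by
    decide +kernel) p hp
  simp only [Bool.and_eq_true, Nat.blt_eq] at this
  obtain ⟨⟨⟨a, b⟩, c⟩, d⟩ := this
  exact req (ra a) (((rρ.conj (cdE b).r).mul (cdE b).r.inv).mul ((rρ.conj (cdE c).r).mul (cdE c).r.inv)) d

end CL.TM
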