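/- Two conjugate standard subgroups `M12`. -/
import Cfsg.Agent.INV.TM.ZF
import Cfsg.Agent.FUS.SylIn
import Cfsg.Agent.PLOC.PNormal
import Cfsg.Agent.INV.SylowAux
import Cfsg.Agent.REC.E32.M12R

set_option autoImplicit false
set_option linter.unusedSectionVars false

namespace CL.TM.Zr

open Subgroup CL.MAut CL.TM.ZF

variable {G : Type*} [Group G] [Finite G]

theorem one_of_odd {X : Subgroup G} (hX : Odd (Nat.card X)) {x : G} (hx : x ∈ X) (h2 : x * x = 1) : x = 1 :=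
  CL.SylowAux.eq_one_of_mem_of_odd (CL.SylowAux.isPGroup_zpowers_two h2) (mem_zpowers x)
    (hX.of_dvd_nat (X.orderOf_dvd_natCard hx))

omit [Finite G] in
theorem can {x : G} (h : x * x = 1) (y : G) : x * (x * y) = y := by rw [← mul_assoc, h, one_mul]

omit [Finite G] in
theorem sq_mul {x y : G} (hx : x * x = 1) (hy : y * y = 1) (c : Commute x y) : x * y * (x * y) = 1 := by
  rw [c.symm.mul_mul_mul_comm, hx, hy, mul_one]

/-- a normal series `1 < ⟨r⟩ < ⟨r, s⟩` of a Sylow subgroup of `K ⟨u⟩` -/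
theorem exists_rs {K : Subgroup G} (h4 : 4 ∣ Nat.card K) {u : G} (uu : u * u = 1)
    (hn : u ∈ normalizer (K : Set G)) :
    ∃ r ∈ K, ∃ s ∈ K, r * r = 1 ∧ r ≠ 1 ∧ Commute r u ∧ Commute r s ∧ s ≠ 1 ∧ s ≠ r ∧ (s * s = 1 ∨ s * s = r) ∧
      (Commute s u ∨ s * u * s⁻¹ = r * u) := by
  obtain ⟨P, hP, hu⟩ := CL.Fus.exists_sylIn_ge (B := normalizer (K : Set G)) (zpowers_le.2 hn)
    (CL.SylowAux.isPGroup_zpowers_two uu)
  have hR := hP.inf_normal le_normalizer le_rfl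
  have c4 : 4 ≤ Nat.card ((P ⊓ K).subgroupOf P) := by
    rw [Nat.card_congr (subgroupOfEquivOfLe inf_le_left).toEquiv, hR.card_eq_pow]
    exact Nat.pow_le_pow_right (n := 2) (i := 2) two_pos
      ((Nat.prime_two.pow_dvd_iff_le_factorization Nat.card_pos.ne').1 h4)
  set R := (P ⊓ K).subgroupOf P
  have : R.Normal := ⟨fun x hx t => ⟨(t * x * t⁻¹).2, (mem_normalizer_iff.1 (hP.le t.2) _).1 hx.2⟩⟩
  obtain ⟨Z, _, -, z2, z3, z4⟩ := CL.PN.exists_normal_between hP.isPGroup ⊥ R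
    (bot_lt_iff_ne_bot.2 fun e => by simp [e] at c4)
  rw [card_bot, mul_one] at z3
  obtain ⟨V, _, v1, v2, v3, v4⟩ := CL.PN.exists_normal_between hP.isPGroup Z R
    (lt_of_le_of_ne z2 fun e => by rw [← e] at c4; omega)
  obtain ⟨r, r1, hr⟩ := (Nat.card_eq_two_iff' (1 : Z)).1 z3
  have mZ : ∀ x ∈ Z, x = 1 ∨ x = r := fun x hx =>
    (em (x = 1)).imp_right fun h => congrArg Subtype.val (hr ⟨x, hx⟩ fun e => h (congrArg Subtype.val e))
  obtain ⟨s, hs, sZ⟩ := SetLike.not_le_iff_exists.1 (show ¬ V ≤ Z from fun e => by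
    have := card_le_of_le e
    omega)
  have cr : ∀ t : P, Commute ((r : P) : G) t := fun t => congrArg Subtype.val
    (commutatorElement_eq_one_iff_mul_comm.1 (mem_bot.1 (z4 (commutator_mem_commutator r.2 (mem_top t)))))
  have i2 : (Z.subgroupOf V).index = 2 := by
    have := (Z.subgroupOf V).card_mul_index
    rw [Nat.card_congr (subgroupOfEquivOfLe v1).toEquiv, v3, z3] at this
    omega
  have rr : r * r = 1 := by simpa [pow_two, z3] using pow_card_eq_one' (x := r)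
  refine ⟨(r : P), (z2 r.2).2, s, (v2 hs).2, congrArg (fun x : Z => ((x : P) : G)) rr,
    fun e => r1 (Subtype.ext (Subtype.ext e)), cr ⟨u, hu (mem_zpowers u)⟩, cr s,
    fun e => sZ ((Subtype.ext e : s = 1) ▸ one_mem Z), fun e => sZ ((Subtype.ext e : s = r) ▸ r.2), ?_, ?_⟩
  · exact (mZ _ (mul_self_mem_of_index_two i2 ⟨s, hs⟩)).imp (congrArg Subtype.val) (congrArg Subtype.val)
  · exact (mZ _ (v4 (commutator_mem_commutator hs (mem_top ⟨u, hu (mem_zpowers u)⟩)))).imp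
      (fun e => commutatorElement_eq_one_iff_commute.1 (congrArg Subtype.val e))
      fun e => mul_inv_eq_iff_eq_mul.1 (congrArg Subtype.val e)

/-- the data attached to a standard subgroup -/
structure St (ι : L0 →* G) (K N : Subgroup G) (ρ : G → Pm) : Prop where
  mul : ∀ a ∈ N, ∀ b ∈ N, ρ (a * b) = ρ a * ρ b
  mem : ∀ a ∈ N, ρ a ∈ A0
  ρι : ∀ l, ρ (ι l) = l
  ker : ∀ a ∈ N, ρ a = 1 ↔ a ∈ K
  act : ∀ a ∈ N, ∀ l l' : L0, (l' : Pm) = ρ a * l * (ρ a)⁻¹ → a * ι l * a⁻¹ = ι l'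
  LN : ∀ l, ι l ∈ N
  KN : K ≤ N
  dec : ∀ u ∈ K, u * u = 1 → u ≠ 1 → ∀ g, Commute g u → g ∈ N

namespace St

variable {ι : L0 →* G} {K N : Subgroup G} {ρ : G → Pm} (T : St ι K N ρ)
include T

/-- the action as a homomorphism -/
def hom : N →* Pm := MonoidHom.mk' (fun g => ρ g) fun g h => T.mul g g.2 h h.2

theorem one {g : G} (hg : g ∈ K) : ρ g = 1 := (T.ker g (T.KN hg)).2 hg

theorem inv {g : G} (hg : g ∈ N) : ρ g⁻¹ = (ρ g)⁻¹ := map_inv T.hom ⟨g, hg⟩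

theorem comm {g h : G} (hg : g ∈ N) (hh : h ∈ N) (c : Commute g h) : Commute (ρ g) (ρ h) := by
  rw [Commute, SemiconjBy, ← T.mul g hg h hh, c.eq, T.mul h hh g hg]

theorem sq {u : G} (hu : u ∈ N) (h : u * u = 1) : ρ u * ρ u = 1 := by rw [← T.mul u hu u hu, h, T.one (one_mem K)]

theorem cj {g h : G} (hg : g ∈ N) (hh : h ∈ N) : ρ (g * h * g⁻¹) = ρ g * ρ h * (ρ g)⁻¹ := by
  rw [T.mul _ (mul_mem hg hh) _ (inv_mem hg), T.mul g hg h hh, T.inv hg]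

theorem normK {g k : G} (hg : g ∈ N) (hk : k ∈ K) : g * k * g⁻¹ ∈ K := by
  rw [← T.ker _ (mul_mem (mul_mem hg (T.KN hk)) (inv_mem hg)), T.cj hg (T.KN hk), T.one hk, mul_one, mul_inv_cancel]

theorem cι {a : G} (ha : a ∈ N) {l : L0} (c : Commute (l : Pm) (ρ a)) : Commute (ι l) a :=
  (mul_inv_eq_iff_eq_mul.1 (T.act a ha l l (by rw [← c.eq, mul_inv_cancel_right]))).symm

theorem Kι {k : G} (hk : k ∈ K) (l : L0) : Commute (ι l) k := T.cι (T.KN hk) (T.one hk ▸ Commute.one_right _)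

theorem inj {l : L0} (h : ι l ∈ K) : (l : Pm) = 1 := (T.ρι l).symm.trans (T.one h)

theorem tri {s q y w : G} (hs : s ∈ N) (hq : q ∈ N) (hy : y ∈ N) (hw : w ∈ N) (t : Tri s q y w) :
    Tri (ρ s) (ρ q) (ρ y) (ρ w) :=
  Tri.map T.hom (l := ⟨s, hs⟩) (q := ⟨q, hq⟩) (y := ⟨y, hy⟩) (w := ⟨w, hw⟩)
    ⟨Subtype.ext t.cq.eq, Subtype.ext t.cy.eq, Subtype.ext t.cw.eq, Subtype.ext t.q2, Subtype.ext t.y3, Subtype.ext t.qy,
      Subtype.ext t.wy⟩

/-- outer involutions of `N` which differ by an element of `L` are conjugate -/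
theorem fus {u : G} (hu : u ∈ N) (uu : u * u = 1) (ho : ρ u ∉ L0) {a : L0} (aa : (a : Pm) * a = 1)
    (c : Commute (a : Pm) (ρ u)) : ∃ c : L0, ι c * u * (ι c)⁻¹ = ι a * u := by
  obtain ⟨c, hc, e⟩ := out_conj (T.mem u hu) (mul_mem (L0_le a.2) (T.mem u hu)) ho
    (fun h => ho ((mul_mem_cancel_left a.2).1 h)) (T.sq hu uu) (sq_mul aa (T.sq hu uu) c)
  refine ⟨⟨c, hc⟩, ?_⟩
  have := T.act u hu ⟨c, hc⟩⁻¹ (⟨c, hc⟩⁻¹ * a) (by
    rw [eq_mul_inv_iff_mul_eq, coe_mul, mul_assoc, ← e]; simp [mul_assoc])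
  rw [map_mul, map_inv, mul_inv_eq_iff_eq_mul] at this
  rw [mul_assoc, this]
  group

theorem conj (g : G) : St ((MulAut.conj g).toMonoidHom.comp ι) (K.comap (MulAut.conj g⁻¹).toMonoidHom)
    (N.comap (MulAut.conj g⁻¹).toMonoidHom) fun a => ρ (MulAut.conj g⁻¹ a) where
  mul a ha b hb := by rw [map_mul]; exact T.mul _ ha _ hb
  mem a ha := T.mem _ ha
  ρι l := by simpa [mul_assoc] using T.ρι l
  ker a ha := T.ker _ ha
  act a ha l l' e := by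
    have := T.act _ ha l l' e
    simp only [MonoidHom.comp_apply, MulEquiv.coe_toMonoidHom, MulAut.conj_apply] at this ⊢
    rw [← this]
    group
  LN l := by simpa [mem_comap, mul_assoc] using T.LN l
  KN := comap_mono T.KN
  dec u hu uu u1 a c := T.dec _ hu (by rw [← map_mul, uu, map_one]) (fun e => u1 (conj_eq_one_iff.1 e)) _ (c.map _)

end St

/-- two standard subgroups -/
structure Two (ι : L0 →* G) (K N : Subgroup G) (ρ : G → Pm) (ι' : L0 →* G) (K' N' : Subgroup G) (ρ' : G → Pm) :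
    Prop where
  T : St ι K N ρ
  T' : St ι' K' N' ρ'
  odd : ∀ x ∈ K, x ∈ K' → x * x = 1 → x = 1
  hn : ¬ ∀ l l', Commute (ι l) (ι' l')

namespace Two

variable {ι ι' : L0 →* G} {K N K' N' : Subgroup G} {ρ ρ' : G → Pm} (W : Two ι K N ρ ι' K' N' ρ')
include W

theorem symm : Two ι' K' N' ρ' ι K N ρ :=
  ⟨W.T', W.T, fun x h h' => W.odd x h' h, fun h => W.hn fun l l' => (h l' l).symm⟩

theorem ne {u : G} (hu : u ∈ K') (uN : u ∈ N) (uu : u * u = 1) (u1 : u ≠ 1) : ρ u ≠ 1 :=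
  fun e => u1 (W.odd u ((W.T.ker u uN).1 e) hu uu)

/-- no four-group of `K' ∩ N` induces inner automorphisms -/
theorem four {u v : G} (hu : u ∈ K') (uN : u ∈ N) (uu : u * u = 1) (u1 : u ≠ 1) (hv : v ∈ K') (vN : v ∈ N)
    (vv : v * v = 1) (v1 : v ≠ 1) (hne : v ≠ u) (c : Commute v u) (uL : ρ u ∈ L0) (vL : ρ v ∈ L0) : False := by
  have h1 := W.ne hu uN uu u1
  have h2 : ∀ l, ι l ∈ N' := fun l => by
    obtain ⟨l', h, e⟩ := gen_two uL vL (W.T.sq uN uu) (W.T.sq vN vv) h1 (W.ne hv vN vv v1)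
      (fun e => W.ne (mul_mem hv hu) (mul_mem vN uN) (sq_mul vv uu c)
        (fun e => hne (by rw [← can uu v, ← c.eq, e, mul_one]))
        (by rw [W.T.mul v vN u uN, e, W.T.sq uN uu])) (W.T.comm vN uN c) (H := (N'.comap ι).map L0.subtype)
      (fun x hx h => ⟨⟨x, hx⟩, h.elim (fun h => W.T'.dec u hu uu u1 _ (W.T.cι uN h))
        fun h => W.T'.dec v hv vv v1 _ (W.T.cι vN h), rfl⟩) l.2
    exact Subtype.ext e ▸ h
  have := CL.E32.M12R.simple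
  have hn : (K'.comap ι).Normal := ⟨fun x hx l => by simpa [mem_comap] using W.T'.normK (h2 l) hx⟩
  rcases hn.eq_bot_or_eq_top with e | e
  · refine h1 (cent12 _ (W.T.mem u uN) fun l hl => ?_)
    have h3 : (⟨l, hl⟩ : L0) * ⟨_, (cjL (W.T.mem u uN)).2 (inv_mem hl)⟩ ∈ K'.comap ι := by
      rw [mem_comap, map_mul, ← W.T.act u uN ⟨l, hl⟩⁻¹ ⟨_, (cjL (W.T.mem u uN)).2 (inv_mem hl)⟩ rfl, map_inv,
        ← mul_assoc, ← mul_assoc]
      exact mul_mem (W.T'.normK (h2 _) hu) (inv_mem hu)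
    rw [e, mem_bot] at h3
    have h4 : l * (ρ u * l⁻¹ * (ρ u)⁻¹) = 1 := congrArg Subtype.val h3
    calc ρ u * l = l * (ρ u * l⁻¹ * (ρ u)⁻¹) * (ρ u * l) := by rw [h4, one_mul]
      _ = _ := by group
  · exact W.hn fun l l' => (W.T'.Kι (e.ge (mem_top l)) l').symm

/-- an element of order four of `K` commuting with `u` -/
theorem cyc {u s : G} (hu : u ∈ K') (uN : u ∈ N) (uu : u * u = 1) (u1 : u ≠ 1) (hs : s ∈ K)
    (s4 : s * s * (s * s) = 1) (s2 : s * s ≠ 1) (c : Commute s u) {q y w : L0}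
    (t : Tri (ρ u) (q : Pm) y w) : ι q ∈ K' := by
  have m : ∀ {l : L0}, Commute (l : Pm) (ρ u) → ι l ∈ N' := fun h => W.T'.dec u hu uu u1 _ (W.T.cι uN h)
  have sN := W.T'.dec u hu uu u1 s c
  have e := W.T'.mul s sN s sN
  refine (W.T'.ker _ (m t.cq)).1 ((ord_four (W.T'.mem s sN) ?_ ?_).2 _ (W.T'.mem _ (m t.cq)) _ (W.T'.mem _ (m t.cy)) _
    (W.T'.mem _ (m t.cw)) (W.T'.tri sN (m t.cq) (m t.cy) (m t.cw) ?_))
  · rw [← e, W.T'.sq (mul_mem sN sN) s4]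
  · rw [← e]
    exact W.symm.ne (mul_mem hs hs) (mul_mem sN sN) s4 s2
  · have t' : Tri (1 : L0) q y w := ⟨.one_right _, .one_right _, .one_right _, Subtype.ext t.q2, Subtype.ext t.y3,
      Subtype.ext t.qy, Subtype.ext t.wy⟩
    exact { t'.map ι with cq := W.T.Kι hs q, cy := W.T.Kι hs y, cw := W.T.Kι hs w }

theorem inner (h4 : 4 ∣ Nat.card K) {u : G} (hu : u ∈ K') (uN : u ∈ N) (uu : u * u = 1) (u1 : u ≠ 1)
    (uL : ρ u ∈ L0) : False := by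
  have h1 := W.ne hu uN uu u1
  have h2 := W.T.sq uN uu
  have key : ∀ l : L0, (l : Pm) * l = 1 → (l : Pm) ≠ 1 → (l : Pm) ≠ ρ u → Commute (l : Pm) (ρ u) → ι l ∉ K' :=
    fun l a b c d e => W.four hu uN uu u1 e (W.T.LN l) (by rw [← map_mul, show l * l = 1 from Subtype.ext a, map_one])
      (fun e => b (W.T.inj (e ▸ one_mem K))) (fun e => c (by rw [← e, W.T.ρι])) (W.T.cι uN d) uL
      (by rw [W.T.ρι]; exact l.2)
  have two : ∀ r ∈ K, ∀ s ∈ K, r * r = 1 → r ≠ 1 → s * s = 1 → s ≠ 1 → s ≠ r → Commute s r → Commute r u →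
      Commute s u → False := fun r hr s hs rr r1 ss s1 sr c cr cs => by
    obtain ⟨x, hx, x1, x2, x3, x4⟩ := exists_four uL h2 h1
    have xN : ι ⟨x, hx⟩ ∈ N' := W.T'.dec u hu uu u1 _ (W.T.cι uN x1)
    have e := W.T'.mul _ xN _ xN
    have xx : ι ⟨x, hx⟩ * ι ⟨x, hx⟩ * (ι ⟨x, hx⟩ * ι ⟨x, hx⟩) = 1 := by
      rw [← map_mul, ← map_mul, ← map_one ι]
      exact congrArg ι (Subtype.ext x2)
    have k : ∀ r ∈ K, r * r = 1 → r ∈ N' → ρ' r ∈ L0 := fun r hr rr rN =>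
      (ord_four (W.T'.mem _ xN) (by rw [← e, W.T'.sq (mul_mem xN xN) xx]) fun e' =>
        key (⟨x, hx⟩ * ⟨x, hx⟩) x2 x3 x4 (x1.mul_left x1)
          (by rw [map_mul]; exact (W.T'.ker _ (mul_mem xN xN)).1 (e.trans e'))).1 _ (W.T'.mem r rN)
        (W.T'.comm rN xN (W.T.Kι hr _).symm) (W.T'.sq rN rr)
    have rN := W.T'.dec u hu uu u1 r cr
    have sN := W.T'.dec u hu uu u1 s cs
    exact W.symm.four hr rN rr r1 hs sN ss s1 sr c (k r hr rr rN) (k s hs ss sN)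
  obtain ⟨r, hr, s, hs, rr, r1, ru, rs, s1, sr, ss, su⟩ := exists_rs h4 uu
    (mem_normalizer_fintype fun k hk => W.T.normK uN hk)
  rcases su with su | su
  · rcases ss with ss | rfl
    · exact two r hr s hs rr r1 ss s1 sr rs.symm ru su
    · obtain ⟨q, hq, y, hy, w, hw, t, q1, q2⟩ := exists_tri (L0_le uL) h2 h1
      exact key ⟨q, hq⟩ t.q2 q1 (fun e => q2 (by rw [show q = ρ u from e, h2])) t.cq
        (W.cyc hu uN uu u1 hs rr r1 su (y := ⟨y, hy⟩) (w := ⟨w, hw⟩) t)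
  · have lu : Commute (ι ⟨_, uL⟩) u := W.T.cι uN (.refl _)
    have ll : ι ⟨_, uL⟩ * ι ⟨_, uL⟩ = 1 := by
      rw [← map_mul, ← map_one ι]
      exact congrArg ι (Subtype.ext h2)
    have hk : u * ι ⟨_, uL⟩ ∈ K := by
      rw [← W.T.ker _ (mul_mem uN (W.T.LN _)), W.T.mul u uN _ (W.T.LN _), W.T.ρι, h2]
    have e : s * (u * ι ⟨_, uL⟩) * s⁻¹ = r * (u * ι ⟨_, uL⟩) := by
      rw [← mul_assoc r, ← su, mul_assoc _ s⁻¹, ← (W.T.Kι (inv_mem hs) _).eq]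
      group
    refine two r hr _ hk rr r1 (sq_mul uu ll lu.symm) (fun e' => r1 ?_) (fun e' => r1 ?_)
      (ru.symm.mul_left (W.T.Kι hr _)) ru ((Commute.refl u).mul_left lu)
    · simpa [e'] using e.symm
    · rw [e', rr] at e
      exact conj_eq_one_iff.1 e

theorem outer (h4 : 4 ∣ Nat.card K) {S : Set G} (hS : ∀ x ∈ S, ∀ g, g * x * g⁻¹ ∈ S) (KS : ∀ x ∈ K, x ∈ S)
    (KS' : ∀ x ∈ K', x ∈ S) (ni : ∀ v ∈ S, v * v = 1 → v ∈ N → ρ v ∈ L0 → v ∈ K)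
    (ni' : ∀ v ∈ S, v * v = 1 → v ∈ N' → ρ' v ∈ L0 → v ∈ K')
    {u : G} (hu : u ∈ K') (uN : u ∈ N) (uu : u * u = 1) (u1 : u ≠ 1) : False := by
  have n1 : ∀ v ∈ K', v * v = 1 → v ∈ N → ρ v ∈ L0 → v = 1 := fun v hv vv vN vL =>
    W.odd v (ni v (KS' v hv) vv vN vL) hv vv
  have n2 : ∀ v ∈ K, v * v = 1 → v ∈ N' → ρ' v ∈ L0 → v = 1 := fun v hv vv vN vL =>
    W.odd v hv (ni' v (KS v hv) vv vN vL) vv
  have uo : ρ u ∉ L0 := fun h => u1 (n1 u hu uu uN h)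
  obtain ⟨q, hq, y, hy, w, hw, t, q1, -⟩ := exists_tri (W.T.mem u uN) (W.T.sq uN uu) (W.ne hu uN uu u1)
  obtain ⟨a, ha⟩ : ∃ a, a = ι ⟨q, hq⟩ := ⟨_, rfl⟩
  have aa : a * a = 1 := by
    rw [ha, ← map_mul, ← map_one ι]
    exact congrArg ι (Subtype.ext t.q2)
  have aN : a ∈ N := ha ▸ W.T.LN _
  have aL : ρ a ∈ L0 := by rw [ha, W.T.ρι]; exact hq
  have aK : a ∉ K := fun h => q1 (W.T.inj (ha ▸ h))
  have au : Commute a u := ha ▸ W.T.cι uN t.cq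
  have aS : a ∉ S := fun h => aK (ni a h aa aN aL)
  obtain ⟨r, hr, s, hs, rr, r1, ru, rs, s1, sr, ss, su⟩ := exists_rs h4 uu
    (mem_normalizer_fintype fun k hk => W.T.normK uN hk)
  have rN := W.T'.dec u hu uu u1 r ru
  have ro : ρ' r ∉ L0 := fun h => r1 (n2 r hr rr rN h)
  rcases su with su | su
  · rcases ss with ss | rfl
    · have sN := W.T'.dec u hu uu u1 s su
      refine sr ?_
      rw [← can rr s, n2 _ (mul_mem hr hs) (sq_mul rr ss rs) (mul_mem rN sN) (by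
        rw [W.T'.mul r rN s sN]
        exact mul_out (W.T'.mem r rN) (W.T'.mem s sN) ro fun h => s1 (n2 s hs ss sN h)), mul_one]
    · exact aS (KS' a (ha ▸ W.cyc hu uN uu u1 hs rr r1 su (y := ⟨y, hy⟩) (w := ⟨w, hw⟩) t))
  have ar : Commute a r := ha ▸ W.T.Kι hr _
  have arS : a * r ∉ S := fun h => aK ((mul_mem_cancel_right hr).1 (ni _ h (sq_mul aa rr ar)
    (mul_mem aN (W.T.KN hr)) (by rw [W.T.mul a aN r (W.T.KN hr), W.T.one hr, mul_one]; exact aL)))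
  have aN' := W.T'.dec u hu uu u1 a au
  obtain ⟨e, he, eL⟩ : ∃ e, (e = a ∨ e = a * r) ∧ ρ' e ∈ L0 := by
    by_cases h : ρ' a ∈ L0
    · exact ⟨a, .inl rfl, h⟩
    · exact ⟨_, .inr rfl, W.T'.mul a aN' r rN ▸ mul_out (W.T'.mem a aN') (W.T'.mem r rN) h ro⟩
  have ee : e * e = 1 := he.elim (· ▸ aa) (· ▸ sq_mul aa rr ar)
  have eN : e ∈ N := he.elim (· ▸ aN) (· ▸ mul_mem aN (W.T.KN hr))
  have eN' : e ∈ N' := he.elim (· ▸ aN') (· ▸ mul_mem aN' rN)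
  have er : Commute e r := he.elim (· ▸ ar) (· ▸ ar.mul_left (.refl r))
  have eu : Commute e u := he.elim (· ▸ au) (· ▸ au.mul_left ru)
  have eS : e ∉ S := he.elim (· ▸ aS) (· ▸ arS)
  obtain ⟨c', hc'⟩ := W.T'.fus rN rr ro (a := ⟨_, eL⟩) (W.T'.sq eN' ee) (W.T'.comm eN' rN er)
  obtain ⟨c, hc⟩ := W.T.fus uN uu uo (a := ⟨q, hq⟩) t.q2 t.cq
  obtain ⟨b, hb⟩ : ∃ b, b = ι' ⟨_, eL⟩ := ⟨_, rfl⟩
  rw [← hb] at hc'
  rw [← ha] at hc
  have bb : b * b = 1 := by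
    rw [hb, ← map_mul, ← map_one ι']
    exact congrArg ι' (Subtype.ext (W.T'.sq eN' ee))
  have bN' : b ∈ N' := hb ▸ W.T'.LN _
  have ρb : ρ' b = ρ' e := by rw [hb, W.T'.ρι]
  have bu : Commute b u := hb ▸ W.T'.Kι hu _
  have be : Commute b e := hb ▸ W.T'.cι eN' (.refl _)
  have bN : b ∈ N := W.T.dec r hr rr r1 b (hb ▸ W.T'.cι rN (W.T'.comm eN' rN er))
  have bK : b ∉ K' := fun h => eS (KS' e ((W.T'.ker e eN').1 (ρb ▸ W.T'.one h)))
  have bS : b ∉ S := fun h => bK (ni' b h bb bN' (ρb ▸ eL))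
  have buS : b * u ∉ S := fun h => bK ((mul_mem_cancel_right hu).1 (ni' _ h (sq_mul bb uu bu)
    (mul_mem bN' (W.T'.KN hu)) (by rw [W.T'.mul b bN' u (W.T'.KN hu), W.T'.one hu, mul_one, ρb]; exact eL)))
  have kK : b * e ∈ K' := by rw [← W.T'.ker _ (mul_mem bN' eN'), W.T'.mul b bN' e eN', ρb, W.T'.sq eN' ee]
  have s1 : a * u ∈ S := hc ▸ hS u (KS' u hu) _
  have s2 : b * r ∈ S := hc' ▸ hS r (KS r hr) _
  have s3 : b * r * u ∈ S := by
    have := hS _ (su ▸ hS u (KS' u hu) s) (ι' c')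
    rwa [← conj_mul, hc', (W.T'.Kι hu c').eq, mul_inv_cancel_right] at this
  by_cases h : ρ (b * e) ∈ L0
  · have e1 : b = e := by rw [← can bb e, n1 _ kK (sq_mul bb ee be) (mul_mem bN eN) h, mul_one]
    rcases he with rfl | rfl
    · exact buS (e1 ▸ s1)
    · rw [e1, mul_assoc, rr, mul_one] at s2
      exact aS s2
  · have e1 : b = e * u := by
      rw [← can bb (e * u), ← mul_assoc b e, n1 _ (mul_mem kK hu) (sq_mul (sq_mul bb ee be) uu (bu.mul_left eu))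
        (mul_mem (mul_mem bN eN) uN) (by
          rw [W.T.mul _ (mul_mem bN eN) u uN]
          exact mul_out (W.T.mem _ (mul_mem bN eN)) (W.T.mem u uN) h uo), mul_one]
    rcases he with rfl | rfl
    · exact bS (e1 ▸ s1)
    · rw [e1, mul_assoc _ u r, ← ru.eq, mul_assoc, mul_assoc, mul_assoc, uu, mul_one, rr, mul_one] at s3
      exact aS s3

end Two

end CL.TM.Zr
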